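import Groth.Agent.Lib.IsQuot25.Points
import Groth.Agent.Lib.IsQuot25.Props
import Groth.Agent.Lib.UnivHomeo.Morph
import Mathlib.AlgebraicGeometry.Morphisms.SchemeTheoreticallyDominant
import Mathlib.AlgebraicGeometry.Morphisms.Integral
import Mathlib.AlgebraicGeometry.PullbackCarrier

/-!
# Comparison maps between quotients by a finite group are universal homeomorphisms
-/

universe u

open CategoryTheory AlgebraicGeometry Limits

namespace Groth.Agent.QuotCmp26

instance : MorphismProperty.IsStableUnderBaseChange @Surjective.{u} := inferInstance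

/-- The map to the scheme theoretic image is schematically dominant. -/
theorem isSchemeTheoreticallyDominant_toImage {X Y : Scheme.{u}} (f : X ⟶ Y) [QuasiCompact f] :
    IsSchemeTheoreticallyDominant f.toImage := by
  refine ⟨Scheme.IdealSheafData.ext_of_iSup_eq_top
    (fun U : Y.affineOpens => ⟨f.imageι ⁻¹ᵁ U.1, U.2.preimage f.imageι⟩) ?_ fun U => ?_⟩
  · show ⨆ U : Y.affineOpens, f.imageι ⁻¹ᵁ U.1 = ⊤
    rw [← Scheme.Hom.preimage_iSup, iSup_affineOpens_eq_top]
    rfl
  · rw [Scheme.Hom.ker_apply, Scheme.IdealSheafData.ideal_bot, Pi.bot_apply,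
      ← RingHom.injective_iff_ker_eq_bot]
    exact f.toImage_app_injective U

/-- A criterion for universal injectivity through a surjective cover. -/
theorem universallyInjective_of_lifts {X Y Z : Scheme.{u}} (r : X ⟶ Y) (hr : Surjective r)
    (m : Y ⟶ Z)
    (h : ∀ (L : Type u) [Field L] (a b : Spec (CommRingCat.of L) ⟶ X),
      a ≫ r ≫ m = b ≫ r ≫ m → a ≫ r = b ≫ r) : UniversallyInjective m := by
  rw [UniversallyInjective.iff_diagonal, surjective_iff]
  intro z
  let φ := (pullback m m).fromSpecResidueField z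
  have key : ∀ (L : Type u) [Field L] (ι : Spec (CommRingCat.of L) ⟶ _)
      (a b : Spec (CommRingCat.of L) ⟶ X), a ≫ r = ι ≫ φ ≫ pullback.fst m m →
      b ≫ r = ι ≫ φ ≫ pullback.snd m m → ∃ y, pullback.diagonal m y = z := by
    intro L _ ι a b ha hb
    have e := h L a b (by
      rw [reassoc_of% ha, reassoc_of% hb]
      simp only [pullback.condition])
    rw [ha, hb] at e
    have hd : ι ≫ φ = (ι ≫ φ ≫ pullback.fst m m) ≫ pullback.diagonal m := by
      apply pullback.hom_ext <;> simp [e]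
    refine ⟨(ι ≫ φ ≫ pullback.fst m m) (IsLocalRing.closedPoint _), ?_⟩
    erw [← Scheme.Hom.comp_apply, ← hd, Scheme.Hom.comp_apply, Scheme.fromSpecResidueField_apply]
  let s₁ := pullback.snd r (φ ≫ pullback.fst m m)
  let s₂ := pullback.snd r (φ ≫ pullback.snd m m)
  haveI : Surjective s₁ := MorphismProperty.of_isPullback (IsPullback.of_hasPullback r _) hr
  haveI h₂ : Surjective s₂ := MorphismProperty.of_isPullback (IsPullback.of_hasPullback r _) hr
  haveI : Surjective (pullback.fst s₁ s₂) :=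
    MorphismProperty.of_isPullback (IsPullback.of_hasPullback s₁ s₂).flip h₂
  obtain ⟨w, -⟩ := (pullback.fst s₁ s₂ ≫ s₁).surjective (IsLocalRing.closedPoint _)
  let ψ := (pullback s₁ s₂).fromSpecResidueField w
  have c₁ : pullback.fst r (φ ≫ pullback.fst m m) ≫ r = s₁ ≫ φ ≫ pullback.fst m m :=
    pullback.condition
  have c₂ : pullback.fst r (φ ≫ pullback.snd m m) ≫ r = s₂ ≫ φ ≫ pullback.snd m m :=
    pullback.condition
  refine key ((pullback s₁ s₂).residueField w) (ψ ≫ pullback.fst s₁ s₂ ≫ s₁)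
    (ψ ≫ pullback.fst s₁ s₂ ≫ pullback.fst r _) (ψ ≫ pullback.snd s₁ s₂ ≫ pullback.fst r _) ?_ ?_
  · show (ψ ≫ _ ≫ _) ≫ r = _
    rw [Category.assoc, Category.assoc, c₁, Category.assoc, Category.assoc]
  · show (ψ ≫ _ ≫ _) ≫ r = _
    rw [Category.assoc, Category.assoc, c₂, Category.assoc, Category.assoc]
    rw [← reassoc_of% (pullback.condition : pullback.fst s₁ s₂ ≫ s₁ = pullback.snd s₁ s₂ ≫ s₂)]

/-- Universal homeomorphism out of a quotient. -/
theorem isUnivHomeo_of_quot {X Y Z : Scheme.{u}} {G : Type u} [Group G] [Finite G]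
    {ρ : G →* Aut X} {r : X ⟶ Y} (hr : SGA1.IsQuot ρ r) (m : Y ⟶ Z)
    (hc : UniversallyClosed (r ≫ m)) (hs : Surjective (r ≫ m))
    (h : ∀ (L : Type u) [Field L] (a b : Spec (CommRingCat.of L) ⟶ X),
      a ≫ r ≫ m = b ≫ r ≫ m → ∃ g : G, a ≫ (ρ g).hom = b) : FlatMor.IsUnivHomeo m := by
  haveI hrs : Surjective r := ⟨IsQuot25.surjective hr⟩
  haveI : UniversallyClosed m := UniversallyClosed.of_comp_surjective r m
  haveI : Surjective m := .of_comp r m
  haveI : UniversallyInjective m := universallyInjective_of_lifts r hrs m fun L _ a b e => by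
    obtain ⟨g, rfl⟩ := h L a b e
    rw [Category.assoc, hr.inv]
  exact UH.isUnivHomeo_of m

theorem baseChange_comparison {X Y S S' Y' : Scheme.{u}} {G : Type u} [Group G] [Finite G]
    (ρ : G →* Aut X) (f : X ⟶ S)
    (q : X ⟶ Y) (h : Y ⟶ S) (hq : q ≫ h = f) (hquot : SGA1.IsQuot ρ q)
    (g : S' ⟶ S)
    (ρ' : G →* Aut (pullback f g))
    (hρ' : ∀ σ : G, (ρ' σ).hom ≫ pullback.fst f g = pullback.fst f g ≫ (ρ σ).hom ∧
      (ρ' σ).hom ≫ pullback.snd f g = pullback.snd f g)
    (r : pullback f g ⟶ Y') (hr : SGA1.IsQuot ρ' r)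
    (m : Y' ⟶ pullback h g)
    (hm₁ : r ≫ m ≫ pullback.fst h g = pullback.fst f g ≫ q)
    (hm₂ : r ≫ m ≫ pullback.snd h g = pullback.snd f g) :
    FlatMor.IsUnivHomeo m := by
  have sq : IsPullback (pullback.fst f g) (r ≫ m) q (pullback.fst h g) := by
    refine IsPullback.of_bot ?_ (by simpa using hm₁.symm) (IsPullback.of_hasPullback h g)
    simp only [Category.assoc]
    rw [hm₂, hq]
    exact IsPullback.of_hasPullback f g
  haveI : IsIntegralHom q := IsQuot25.isIntegralHom hquot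
  haveI : Surjective q := ⟨IsQuot25.surjective hquot⟩
  haveI : IsIntegralHom (r ≫ m) := MorphismProperty.of_isPullback sq ‹_›
  haveI : Surjective (r ≫ m) := MorphismProperty.of_isPullback sq ‹_›
  refine isUnivHomeo_of_quot hr m inferInstance ‹_› fun L _ a b e => ?_
  have e₁ := congr($e ≫ pullback.fst h g)
  have e₂ := congr($e ≫ pullback.snd h g)
  simp only [Category.assoc] at e₁ e₂
  rw [hm₁] at e₁
  rw [hm₂] at e₂
  obtain ⟨σ, hσ⟩ := IsQuot25.exists_act_of_comp_eq hquot (a ≫ pullback.fst f g)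
    (b ≫ pullback.fst f g) (by simpa using e₁)
  refine ⟨σ, pullback.hom_ext ?_ ?_⟩
  · rw [Category.assoc, (hρ' σ).1, ← hσ, Category.assoc]
  · rw [Category.assoc, (hρ' σ).2, e₂]

theorem closedSubscheme_comparison {X Y Z W : Scheme.{u}} {G : Type u} [Group G] [Finite G]
    (ρ : G →* Aut X) (q : X ⟶ Y) (hquot : SGA1.IsQuot ρ q)
    (i : Z ⟶ X) [IsClosedImmersion i] (ρZ : G →* Aut Z)
    (hρZ : ∀ σ : G, (ρZ σ).hom ≫ i = i ≫ (ρ σ).hom)
    (r : Z ⟶ W) (hr : SGA1.IsQuot ρZ r)
    (m : W ⟶ (i ≫ q).ker.subscheme) (hm : r ≫ m ≫ (i ≫ q).ker.subschemeι = i ≫ q) :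
    FlatMor.IsUnivHomeo m ∧ IsSchemeTheoreticallyDominant m := by
  haveI : IsIntegralHom q := IsQuot25.isIntegralHom hquot
  have e0 : r ≫ m = (i ≫ q).toImage := by
    rw [← cancel_mono (i ≫ q).ker.subschemeι, Category.assoc, hm]
    exact (Scheme.Hom.toImage_imageι _).symm
  haveI hd : IsSchemeTheoreticallyDominant (r ≫ m) := by
    rw [e0]; exact isSchemeTheoreticallyDominant_toImage _
  haveI : IsIntegralHom ((r ≫ m) ≫ (i ≫ q).ker.subschemeι) := by
    rw [Category.assoc, hm]; infer_instance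
  haveI : IsIntegralHom (r ≫ m) :=
    MorphismProperty.of_postcomp (W' := @IsSeparated) _ _ _ inferInstance ‹_›
  haveI : Surjective (r ≫ m) := by
    rw [surjective_iff, ← Set.range_eq_univ, ← (r ≫ m).isClosedMap.isClosed_range.closure_eq]
    exact (r ≫ m).denseRange.closure_range
  refine ⟨isUnivHomeo_of_quot hr m inferInstance ‹_› fun L _ a b e => ?_, ⟨le_bot_iff.mp ?_⟩⟩
  · have e₁ := congr($e ≫ (i ≫ q).ker.subschemeι)
    simp only [Category.assoc] at e₁
    rw [hm] at e₁
    obtain ⟨σ, hσ⟩ := IsQuot25.exists_act_of_comp_eq hquot (a ≫ i) (b ≫ i) (by simpa using e₁)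
    refine ⟨σ, ?_⟩
    rw [← cancel_mono i, Category.assoc, hρZ, ← hσ, Category.assoc]
  · exact (r.le_ker_comp m).trans (Scheme.Hom.ker_eq_bot (r ≫ m)).le

end Groth.Agent.QuotCmp26
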